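import Groth.Agent.SheafHomY.Ext
import Groth.Agent.KFlatLib.Scheme.TensorOver
import Groth.Agent.InvX.Tensor
import Groth.Agent.KFlatLib.Scheme.RelTensorAmp
import Groth.Agent.S4498

/-!
# `M ↦ Hom(G, F ⊗ M)` is corepresentable for presented `G`
-/

set_option autoImplicit false
set_option linter.style.haveILetI false
set_option backward.isDefEq.respectTransparency false
set_option backward.isDefEq.respectTransparency.types false
set_option maxHeartbeats 1000000

universe u

open CategoryTheory CategoryTheory.Limits AlgebraicGeometry TopologicalSpace Opposite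

attribute [local instance] HasDerivedCategory.standard

namespace Groth.Agent.CorepX

open Groth.Agent Groth.Agent.SheafHomX

variable {A : Type u} [CommRing A] {X : Scheme.{u}} [X.Over (Spec (CommRingCat.of A))]

/-- `Hom(E, F_M) ≅ (F ⊗ E^∨)_M`. -/
noncomputable def homTensorAIso (F : X.Modules) {E : X.Modules} (hE : FlatMod.IsFinLocFree E) :
    CohIII.tensorAFunctor A F ⋙ hom E ≅ CohIII.tensorAFunctor A ((ten (SheafHomY.dual E)).obj F) :=
  Functor.isoWhiskerLeft (CohIII.tensorAFunctor A F) (SheafHomY.thetaIso hE).symm ≪≫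
    Functor.isoWhiskerLeft (tilde.functor (CommRingCat.of A) ⋙ Scheme.Modules.pullback (X ↘ Spec (CommRingCat.of A)))
      (NatIso.ofComponents (fun Z => (((KFlatLib.tensorAssocSch X).app Z).app F).app (SheafHomY.dual E))
        (fun {Z Z'} g => (congr_app (congr_app ((KFlatLib.tensorAssocSch X).hom.naturality g) F) (SheafHomY.dual E) :)) :
          ten F ⋙ ten (SheafHomY.dual E) ≅ ten ((ten (SheafHomY.dual E)).obj F))

theorem tenUnitIso_naturality {M M' : X.Modules} (g : M ⟶ M') :
    ((DCoh.tensorBi (X := X)).flip.map g).app (Coh.structureModule X) ≫ (tenUnitIso M').hom =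
      (tenUnitIso M).hom ≫ g := by
  have h1 := congr_app ((KFlatLib.tensorBiFlipIso X).hom.naturality g) (Coh.structureModule X)
  have h2 := (KFlatLib.tensorStructureIso X).hom.naturality g
  simp only [tenUnitIso, Iso.trans_hom, Iso.app_hom, NatTrans.comp_app, Category.assoc] at h1 ⊢
  refine ((reassoc_of% h1) _).trans ?_
  exact congrArg (_ ≫ ·) h2

theorem ev_homMap {M M' N : X.Modules} (g : M ⟶ M') (x : Coh.structureModule X ⟶ (hom M').obj N) :
    ev M N (x ≫ (homMap g).app N) = g ≫ ev M' N x := by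
  show (tenUnitIso M).inv ≫ ((adj M).homEquiv _ _).symm (x ≫ (homMap g).app N) =
    g ≫ (tenUnitIso M').inv ≫ ((adj M').homEquiv _ _).symm x
  rw [homEquiv_homMap, Iso.inv_comp_eq, ← Category.assoc, ← Category.assoc, ← tenUnitIso_naturality,
    Category.assoc, Category.assoc, Iso.hom_inv_id_assoc]

theorem one_injective {N : X.Modules} : Function.Injective (InvX.one (L := N)) := fun y y' h =>
  Scheme.Modules.hom_ext _ _ fun W => ConcreteCategory.hom_ext _ _ fun r =>
    (InvX.app_eq_smul y r).trans ((congrArg (fun z => (show Γ(X, W) from r) • AModX.res N (le_top : W ≤ ⊤) z) h).trans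
      (InvX.app_eq_smul y' r).symm)

/-- The global sections, as a module over the base, underlying a map out of the structure sheaf. -/
noncomputable def secA (N : X.Modules) :
    (Coh.structureModule X ⟶ N) ≃+ ((CohIII.globalSectionsA A).obj N : ModuleCat.{u} A) :=
  AddEquiv.ofBijective (AddMonoidHom.mk' (fun y : Coh.structureModule X ⟶ N => (show ((CohIII.globalSectionsA A).obj N : ModuleCat.{u} A) from InvX.one (L := N) y))
      fun _ _ => rfl)
    ⟨fun _ _ h => one_injective h, fun s => ⟨InvX.ofSect (show Γ(N, ⊤) from s), InvX.one_ofSect _⟩⟩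

theorem secA_comp {N N' : X.Modules} (y : Coh.structureModule X ⟶ N) (g : N ⟶ N') :
    secA (A := A) N' (y ≫ g) = ((CohIII.globalSectionsA A).map g).hom (secA (A := A) N y) := rfl

variable [IsNoetherianRing A] [IsProper (X ↘ Spec (CommRingCat.of A))]

/-- `M ↦ Hom(G, F_M)` is corepresented by a finite module. -/
theorem exists_corep_hom (F : X.Modules) (hF : Coh.IsCoh F)
    (hfl : FlatMod.IsFlatOver (X ↘ Spec (CommRingCat.of A)) F)
    (G E₀ E₁ : X.Modules) (h₀ : FlatMod.IsFinLocFree E₀) (h₁ : FlatMod.IsFinLocFree E₁)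
    (v : E₁ ⟶ E₀) (π : E₀ ⟶ G) [Epi π] (w : v ≫ π = 0) (hex : (ShortComplex.mk v π w).Exact) :
    ∃ N : ModuleCat.{u} A, Module.Finite A N ∧
      Nonempty (CohIII.tensorAFunctor A F ⋙ preadditiveCoyoneda.obj (op G) ≅
        (linearCoyoneda A (ModuleCat.{u} A)).obj (op N) ⋙ forget₂ (ModuleCat.{u} A) AddCommGrpCat.{u}) := by
  let φ := CohIII.tensorAFunctor A F
  let e₀ := homTensorAIso (A := A) F h₀
  let e₁ := homTensorAIso (A := A) F h₁
  let θ : CohIII.tensorAFunctor A ((ten (SheafHomY.dual E₀)).obj F) ⟶ CohIII.tensorAFunctor A ((ten (SheafHomY.dual E₁)).obj F) :=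
    e₀.inv ≫ Functor.whiskerLeft φ (homMap v) ≫ e₁.hom
  have hprop : ∀ {E : X.Modules}, FlatMod.IsFinLocFree E → Coh.IsCoh ((ten (SheafHomY.dual E)).obj F) ∧
      FlatMod.IsFlatOver (X ↘ Spec (CommRingCat.of A)) ((ten (SheafHomY.dual E)).obj F) := fun {E} hE => by
    have hone : FlatMod.IsFinLocFree (Coh.structureModule X) := fun x =>
      ⟨⊤, 1, trivial, ⟨KFlatLib.restrictStructureIso _ ≪≫ (coproductUniqueIso fun _ : Fin 1 => Coh.structureModule _).symm⟩⟩
    have hd : FlatMod.IsFinLocFree (SheafHomY.dual E) := isFinLocFree_hom hE hone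
    let c : ((DCoh.tensorBi (X := X)).obj (SheafHomY.dual E)).obj F ≅ (ten (SheafHomY.dual E)).obj F :=
      (((KFlatLib.tensorBiFlipIso X).app (SheafHomY.dual E)).app F).symm
    exact ⟨isCoh_of_iso c (KFlatLib.isCoh_tensor_finLocFree hd hF),
      KFlatLib.isFlatOver_of_iso' _ c (KFlatLib.isFlatOver_tensor _ (KFlatLib.isFlat_of_isFinLocFree hd) hfl)⟩
  obtain ⟨R, ι, hR, hinj, him⟩ := S4498.result A X _ _ (hprop h₀).1 (hprop h₁).1 (hprop h₀).2 (hprop h₁).2
    (Functor.whiskerRight θ (CohIII.globalSectionsA A))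
  let q : ∀ (M : ModuleCat.{u} A), (G ⟶ φ.obj M) →+
      ((CohIII.tensorAFunctor A ((ten (SheafHomY.dual E₀)).obj F) ⋙ CohIII.globalSectionsA A).obj M) := fun M =>
    AddMonoidHom.mk' (fun ψ => secA (A := A) _ ((ev E₀ (φ.obj M)).symm (π ≫ ψ) ≫ e₀.hom.app M)) fun a b => by
      rw [Preadditive.comp_add, map_add, Preadditive.add_comp]; exact map_add (secA (A := A) _) _ _
  have hq : ∀ M (z : Coh.structureModule X ⟶ (hom E₀).obj (φ.obj M)),
      ((Functor.whiskerRight θ (CohIII.globalSectionsA A)).app M).hom (secA (A := A) _ (z ≫ e₀.hom.app M)) = 0 ↔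
        v ≫ ev E₀ (φ.obj M) z = 0 := fun M z => by
    have e : ((Functor.whiskerRight θ (CohIII.globalSectionsA A)).app M).hom (secA (A := A) _ (z ≫ e₀.hom.app M)) =
        secA (A := A) _ ((z ≫ (homMap v).app (φ.obj M)) ≫ e₁.hom.app M) := by
      refine (secA_comp (z ≫ e₀.hom.app M) (θ.app M)).symm.trans (congrArg _ ?_)
      show (z ≫ e₀.hom.app M) ≫ e₀.inv.app M ≫ (homMap v).app (φ.obj M) ≫ e₁.hom.app M = _
      rw [Category.assoc, Iso.hom_inv_id_app_assoc, Category.assoc]
    rw [e, map_eq_zero_iff _ (secA (A := A) _).injective, Preadditive.IsIso.comp_right_eq_zero,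
      ← map_eq_zero_iff _ (ev E₁ (φ.obj M)).injective, ev_homMap]
  have hq0 : ∀ M (ψ : G ⟶ φ.obj M), ((Functor.whiskerRight θ (CohIII.globalSectionsA A)).app M).hom (q M ψ) = 0 := fun M ψ =>
    (hq M _).2 (by rw [AddEquiv.apply_symm_apply, ← Category.assoc, w, zero_comp])
  choose y hy using fun M ψ => (him M (q M ψ)).1 (hq0 M ψ)
  let e : ∀ M, (G ⟶ φ.obj M) ≃+ (R ⟶ M) := fun M => AddEquiv.ofBijective
    (AddMonoidHom.mk' (fun ψ => y M ψ) fun a b => hinj M (by
      refine (hy M _).trans ?_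
      refine Eq.trans ?_ (map_add (ι.app M).hom (y M a) (y M b)).symm
      rw [hy M a, hy M b, map_add]))
    ⟨fun a b h => by
      have h' : q M a = q M b := (hy M a).symm.trans ((congrArg (ι.app M).hom h).trans (hy M b))
      have h'' := (secA (A := A) _).injective h'
      rw [cancel_mono, EmbeddingLike.apply_eq_iff_eq, cancel_epi] at h''
      exact h'',
    fun r => by
      obtain ⟨z, hz⟩ := (secA (A := A) _).surjective ((ι.app M).hom r)
      have h0 : v ≫ ev E₀ (φ.obj M) (z ≫ e₀.inv.app M) = 0 := by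
        refine (hq M _).1 ?_
        rw [Category.assoc, Iso.inv_hom_id_app, Category.comp_id, hz]
        exact (him M _).2 ⟨r, rfl⟩
      refine ⟨hex.desc _ h0, hinj M ((hy M _).trans ?_)⟩
      show secA (A := A) _ ((ev E₀ (φ.obj M)).symm (π ≫ hex.desc _ h0) ≫ e₀.hom.app M) = _
      have hπ : π ≫ hex.desc _ h0 = ev E₀ (φ.obj M) (z ≫ e₀.inv.app M) := hex.g_desc _ h0
      rw [hπ, AddEquiv.symm_apply_apply, Category.assoc, Iso.inv_hom_id_app, Category.comp_id, hz]⟩
  refine ⟨R, hR, ⟨NatIso.ofComponents (fun M => (e M).toAddCommGrpIso) fun {M M'} g => AddCommGrpCat.ext fun ψ => ?_⟩⟩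
  show y M' (ψ ≫ φ.map g) = y M ψ ≫ g
  refine hinj M' ((hy M' _).trans ?_)
  have hn : (ι.app M').hom (y M ψ ≫ g) =
      ((CohIII.tensorAFunctor A ((ten (SheafHomY.dual E₀)).obj F) ⋙ CohIII.globalSectionsA A).map g).hom ((ι.app M).hom (y M ψ)) :=
    ConcreteCategory.congr_hom (ι.naturality g) (y M ψ)
  rw [hn, hy M ψ]
  show secA (A := A) _ _ = ((CohIII.globalSectionsA A).map _).hom (secA (A := A) _ _)
  rw [← secA_comp]
  refine congrArg _ ?_
  have h4 : (ev E₀ (φ.obj M')).symm (π ≫ ψ ≫ φ.map g) =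
      (ev E₀ (φ.obj M)).symm (π ≫ ψ) ≫ (hom E₀).map (φ.map g) := by
    apply (ev E₀ (φ.obj M')).injective
    rw [ev_naturality, AddEquiv.apply_symm_apply, AddEquiv.apply_symm_apply, Category.assoc]
  rw [h4, Category.assoc, Category.assoc]
  exact congrArg (_ ≫ ·) (e₀.hom.naturality g)

end Groth.Agent.CorepX
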